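import Mathlib
import Groth.Prelude.Def_RelProj3
import Groth.Agent.Lib.Lead.QC.Closure
import Groth.Agent.Lib.Lead.QC.SubExt
import Groth.Agent.Lib.Helper8.ProjTilde.QCoh

set_option autoImplicit false
universe u
open AlgebraicGeometry CategoryTheory Opposite TopologicalSpace

namespace Groth.Agent.H8.RelTilde

open Groth.Agent.LD.QC

section general
variable {X Z : Scheme.{u}} (j : Z ⟶ X) [IsOpenImmersion j] (F : X.Modules) (G : Z.Modules)
  (lam : F ⟶ (Scheme.Modules.pushforward j).obj G)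

/-- the adjunct `F|_Z ⟶ G` of `lam : F ⟶ j_* G`. -/
noncomputable def adj : F.restrict j ⟶ G :=
  ((Scheme.Modules.restrictAdjunction j).homEquiv F G).symm lam

lemma adj_app (V : Z.Opens) :
    (adj j F G lam).app V = lam.app (j ''ᵁ V) ≫ G.presheaf.map (eqToHom (j.preimage_image_eq V).symm).op := by
  unfold adj
  rw [Adjunction.homEquiv_counit]
  rfl

/-- **local identification**: if `lam : F ⟶ j_* G` is bijective on sections over all opens inside the range of the
open immersion `j`, then its adjunct `F|_Z ⟶ G` is an isomorphism. -/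
theorem isIso_adj (h : ∀ W : X.Opens, W ≤ j.opensRange → Function.Bijective (lam.app W)) :
    IsIso (adj j F G lam) := by
  refine isIso_of_bijective_app _ fun V => ?_
  rw [adj_app]
  have h1 := h (j ''ᵁ V) (by
    intro x hx
    obtain ⟨y, -, rfl⟩ := hx
    exact ⟨y, rfl⟩)
  have h2 : Function.Bijective (G.presheaf.map (eqToHom (j.preimage_image_eq V).symm).op) := by
    rw [← ConcreteCategory.isIso_iff_bijective]
    infer_instance
  exact h2.comp h1

end general

section rel
variable {Y P : Scheme.{u}} (𝒮 : RelProj.QCGrAlg Y) (p : P ⟶ Y)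
  (chart : ∀ (U : Y.Opens) (hU : IsAffineOpen U), (((p ⁻¹ᵁ U : P.Opens) : Scheme.{u}) ≅ Proj (𝒮.deg U hU)))

lemma opensRange_emb (U : Y.Opens) (hU : IsAffineOpen U) :
    (RelProj.emb p chart U hU).opensRange = p ⁻¹ᵁ U := by
  unfold RelProj.emb
  rw [Scheme.Hom.opensRange_comp_of_isIso, Scheme.Opens.opensRange_ι]

lemma isOpenCover_emb :
    IsOpenCover (fun U : Y.affineOpens => (RelProj.emb p chart U.1 U.2).opensRange) := by
  rw [IsOpenCover, eq_top_iff]
  intro x _
  have hx : p.base x ∈ (⊤ : Y.Opens) := trivial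
  rw [← iSup_affineOpens_eq_top Y] at hx
  obtain ⟨U, hU⟩ := Opens.mem_iSup.mp hx
  refine Opens.mem_iSup.mpr ⟨U, ?_⟩
  rw [opensRange_emb]
  exact hU

/-- quasi-coherence is checked chartwise on a relative Proj. -/
theorem qc_of_charts (F : P.Modules)
    (h : ∀ U : Y.affineOpens, (F.restrict (RelProj.emb p chart U.1 U.2)).IsQuasicoherent) :
    F.IsQuasicoherent := by
  refine isQuasicoherent_of_isOpenCover F _ (isOpenCover_emb 𝒮 p chart) fun U => ?_
  have := h U
  exact qc_of_iso (restrictOpensRangeIso (RelProj.emb p chart U.1 U.2) F) inferInstance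

variable {𝒮 p chart}

/-- the chartwise identification of an `IsRelTilde` datum is an isomorphism `F|_{Proj 𝒮(U)} ≅ ℳ(U)(n)~`. -/
theorem isIso_adj_relTilde {ℳ : RelProj.GrModule 𝒮} {n : ℤ} {F : P.Modules}
    {lam : ∀ (U : Y.Opens) (hU : IsAffineOpen U),
      F ⟶ (Scheme.Modules.pushforward (RelProj.emb p chart U hU)).obj (GrMod.tilde (𝒮.deg U hU) (ℳ.deg U hU) n)}
    (hF : RelProj.IsRelTilde 𝒮 p chart ℳ n F lam) (U : Y.Opens) (hU : IsAffineOpen U) :
    IsIso (adj (RelProj.emb p chart U hU) F _ (lam U hU)) :=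
  isIso_adj _ _ _ _ fun W hW => hF.bijective U hU W (by rwa [opensRange_emb] at hW)

/-- the chartwise identification of an `IsRelTwist` datum is an isomorphism `L|_{Proj 𝒮(U)} ≅ O(n)`. -/
theorem isIso_adj_relTwist {n : ℤ} {L : P.Modules}
    {lam : ∀ (U : Y.Opens) (hU : IsAffineOpen U),
      L ⟶ (Scheme.Modules.pushforward (RelProj.emb p chart U hU)).obj (GrTwist.twist (𝒮.deg U hU) n)}
    (hL : RelProj.IsRelTwist 𝒮 p chart n L lam) (U : Y.Opens) (hU : IsAffineOpen U) :
    IsIso (adj (RelProj.emb p chart U hU) L _ (lam U hU)) :=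
  isIso_adj _ _ _ _ fun W hW => hL.bijective U hU W (by rwa [opensRange_emb] at hW)

/-- **`(ℳ(n))~` on a relative Proj is quasi-coherent.** -/
theorem relTilde_isQuasicoherent {ℳ : RelProj.GrModule 𝒮} {n : ℤ} {F : P.Modules}
    {lam : ∀ (U : Y.Opens) (hU : IsAffineOpen U),
      F ⟶ (Scheme.Modules.pushforward (RelProj.emb p chart U hU)).obj (GrMod.tilde (𝒮.deg U hU) (ℳ.deg U hU) n)}
    (hF : RelProj.IsRelTilde 𝒮 p chart ℳ n F lam) : F.IsQuasicoherent := by
  refine qc_of_charts 𝒮 p chart F fun U => ?_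
  haveI := isIso_adj_relTilde hF U.1 U.2
  exact qc_of_iso (asIso (adj (RelProj.emb p chart U.1 U.2) F _ (lam U.1 U.2))).symm
    (Groth.Agent.H8.ProjTilde.tilde_isQuasicoherent (𝒮.deg U.1 U.2) (ℳ.deg U.1 U.2) n)

/-- **`O_P(n)` on a relative Proj is quasi-coherent.** -/
theorem relTwist_isQuasicoherent {n : ℤ} {L : P.Modules}
    {lam : ∀ (U : Y.Opens) (hU : IsAffineOpen U),
      L ⟶ (Scheme.Modules.pushforward (RelProj.emb p chart U hU)).obj (GrTwist.twist (𝒮.deg U hU) n)}
    (hL : RelProj.IsRelTwist 𝒮 p chart n L lam) : L.IsQuasicoherent := by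
  refine qc_of_charts 𝒮 p chart L fun U => ?_
  haveI := isIso_adj_relTwist hL U.1 U.2
  exact qc_of_iso (asIso (adj (RelProj.emb p chart U.1 U.2) L _ (lam U.1 U.2))).symm
    (Groth.Agent.H8.ProjTilde.tilde_isQuasicoherent (𝒮.deg U.1 U.2) (𝒮.deg U.1 U.2) n)

end rel

end Groth.Agent.H8.RelTilde
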