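import Mathlib
import Groth.Prelude.Def_RelProj3
import Groth.Agent.Lib.Lead.QC.Extend
import Groth.Agent.Lib.Helper8.RelTilde.Local
import Groth.Agent.Lib.Helper8.ProjTilde.Stalk

set_option autoImplicit false
universe u
open AlgebraicGeometry CategoryTheory CategoryTheory.Limits Opposite TopologicalSpace

namespace Groth.Agent.H8.RelTilde

open Groth.Agent.LD.QC Groth.Agent.H8.ProjTilde

section ring
variable {A σ : Type u} [CommRing A] [SetLike σ A] [AddSubgroupClass σ A] (𝒜 : ℕ → σ) [GradedRing 𝒜]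
variable {M τ : Type u} [AddCommGroup M] [Module A M] [SetLike τ M] [AddSubgroupClass τ M] (ℳ : ℕ → τ)
variable [SetLike.GradedSMul 𝒜 ℳ]

/-- under (TN), degree-`n` fractions at a point vanish. -/
lemma tildeAt_eq_zero_of_TN {n₀ : ℕ} (hTN : ∀ k : ℕ, n₀ ≤ k → ∀ m ∈ ℳ k, m = 0) (n : ℤ)
    (x : ProjectiveSpectrum 𝒜) {q : GrMod.LocMod 𝒜 (M := M) x} (hq : q ∈ GrMod.tildeAt 𝒜 ℳ n x) : q = 0 := by
  obtain ⟨i, j, m, hm, s, hs, hsx, hij, rfl⟩ := exists_frac_of_mem_tildeAt 𝒜 ℳ n x hq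
  obtain ⟨f, d, hf, hd, hfx⟩ := exists_homog_notMem 𝒜 x
  rw [mk_eq_zero_iff]
  refine ⟨⟨f ^ n₀, fun h => hfx (x.isPrime.mem_of_pow_mem _ h)⟩, ?_⟩
  refine hTN (n₀ * d + i) ?_ _ (SetLike.GradedSMul.smul_mem (pow_mem_graded' 𝒜 hf n₀) hm)
  have : n₀ ≤ n₀ * d := Nat.le_mul_of_pos_right _ hd
  omega

/-- under (TN), `M(n)~` has no nonzero sections. -/
lemma sect_subsingleton_of_TN {n₀ : ℕ} (hTN : ∀ k : ℕ, n₀ ≤ k → ∀ m ∈ ℳ k, m = 0) (n : ℤ)
    (U : (Opens (ProjectiveSpectrum.top 𝒜))ᵒᵖ) : Subsingleton (GrMod.sect 𝒜 ℳ n U) := by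
  refine ⟨fun a b => sect_ext 𝒜 ℳ a b fun x => ?_⟩
  rw [tildeAt_eq_zero_of_TN 𝒜 ℳ hTN n x.1 (a.1 x).2, tildeAt_eq_zero_of_TN 𝒜 ℳ hTN n x.1 (b.1 x).2]

end ring

section general
variable {X : Scheme.{u}}

/-- a module all of whose sections vanish is zero. -/
lemma isZero_of_subsingleton (F : X.Modules) (h : ∀ U : X.Opens, Subsingleton Γ(F, U)) : IsZero F := by
  rw [IsZero.iff_id_eq_zero]
  refine Scheme.Modules.hom_ext _ _ fun U => ?_
  ext a
  have := h U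
  exact Subsingleton.elim _ _

/-- a module whose sections over all small opens of a cover vanish is zero. -/
lemma isZero_of_subsingleton_cover (F : X.Modules) {ι : Type*} (V : ι → X.Opens) (hV : IsOpenCover V)
    (h : ∀ (i : ι) (W : X.Opens), W ≤ V i → Subsingleton Γ(F, W)) : IsZero F := by
  refine isZero_of_subsingleton F fun U => ⟨fun s s' => ?_⟩
  refine section_ext_of_cover F (fun i => U ⊓ V i) (fun i => inf_le_left) ?_ s s' fun i => ?_
  · intro x hx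
    have hx' : x ∈ (⊤ : X.Opens) := trivial
    rw [← hV.iSup_eq_top] at hx'
    obtain ⟨i, hi⟩ := Opens.mem_iSup.mp hx'
    exact Opens.mem_iSup.mpr ⟨i, hx, hi⟩
  · have := h i (U ⊓ V i) inf_le_right
    exact Subsingleton.elim _ _

end general

section rel
variable {Y P : Scheme.{u}} {𝒮 : RelProj.QCGrAlg Y} {p : P ⟶ Y}
  {chart : ∀ (U : Y.Opens) (hU : IsAffineOpen U), (((p ⁻¹ᵁ U : P.Opens) : Scheme.{u}) ≅ Proj (𝒮.deg U hU))}

/-- **(TN) implies `(ℳ(n))~ = 0`** on a relative Proj. -/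
theorem relTilde_isZero_of_TN {ℳ : RelProj.GrModule 𝒮} (hTN : ℳ.IsTN) {n : ℤ} {F : P.Modules}
    {lam : ∀ (U : Y.Opens) (hU : IsAffineOpen U),
      F ⟶ (Scheme.Modules.pushforward (RelProj.emb p chart U hU)).obj (GrMod.tilde (𝒮.deg U hU) (ℳ.deg U hU) n)}
    (hF : RelProj.IsRelTilde 𝒮 p chart ℳ n F lam) : IsZero F := by
  obtain ⟨n₀, hn₀⟩ := hTN
  refine isZero_of_subsingleton_cover F _ (isOpenCover_emb 𝒮 p chart) fun U W hW => ?_
  rw [opensRange_emb] at hW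
  have hinj := (hF.bijective U.1 U.2 W hW).1
  have hsub : Subsingleton (GrMod.sect (𝒮.deg U.1 U.2) (ℳ.deg U.1 U.2) n
      (op (RelProj.emb p chart U.1 U.2 ⁻¹ᵁ W))) :=
    sect_subsingleton_of_TN _ _ (hn₀ U.1 U.2) n _
  exact ⟨fun a b => hinj (hsub.elim _ _)⟩

end rel

end Groth.Agent.H8.RelTilde
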