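import Mathlib
import Groth.Prelude.Def_RelProj3
import Groth.Agent.Lib.Lead.QC.BiprodSec
import Groth.Agent.Lib.Lead.QC.EpiLocal
import Groth.Agent.Lib.Helper8.RelTilde.Zero
import Groth.Agent.Lib.Helper8.ProjTilde.Exact
import Groth.Agent.Lib.Helper8.ProjTilde.Comap

set_option autoImplicit false
universe u
open AlgebraicGeometry CategoryTheory CategoryTheory.Limits Opposite TopologicalSpace

namespace Groth.Agent.H8.RelTilde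

open Groth.Agent.LD.QC Groth.Agent.H8.ProjTilde

section ring
variable {A σ : Type u} [CommRing A] [SetLike σ A] [AddSubgroupClass σ A] (𝒜 : ℕ → σ) [GradedRing 𝒜]
variable {M₁ τ₁ : Type u} [AddCommGroup M₁] [Module A M₁] [SetLike τ₁ M₁] [AddSubgroupClass τ₁ M₁]
    (ℳ₁ : ℕ → τ₁) [SetLike.GradedSMul 𝒜 ℳ₁] [DirectSum.Decomposition ℳ₁]
    {M₂ τ₂ : Type u} [AddCommGroup M₂] [Module A M₂] [SetLike τ₂ M₂] [AddSubgroupClass τ₂ M₂]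
    (ℳ₂ : ℕ → τ₂) [SetLike.GradedSMul 𝒜 ℳ₂] [DirectSum.Decomposition ℳ₂]
    {M₃ τ₃ : Type u} [AddCommGroup M₃] [Module A M₃] [SetLike τ₃ M₃] [AddSubgroupClass τ₃ M₃]
    (ℳ₃ : ℕ → τ₃) [SetLike.GradedSMul 𝒜 ℳ₃] [DirectSum.Decomposition ℳ₃]

/-- exactness on sections over any open equal to a `D₊(f)`. -/
theorem mapApp_exact' (u : M₁ →ₗ[A] M₂) (hu : ∀ (i : ℕ) (m : M₁), m ∈ ℳ₁ i → u m ∈ ℳ₂ i)
    (v : M₂ →ₗ[A] M₃) (hv : ∀ (i : ℕ) (m : M₂), m ∈ ℳ₂ i → v m ∈ ℳ₃ i)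
    (hex : Function.Exact u v) (n : ℤ) {d : ℕ} (hd : 0 < d) {f : A} (hf : f ∈ 𝒜 d)
    (V : Opens (ProjectiveSpectrum.top 𝒜)) (hV : V = ProjectiveSpectrum.basicOpen 𝒜 f) :
    Function.Exact (GrMod.mapApp u hu n (op V)) (GrMod.mapApp v hv n (op V)) := by
  subst hV
  exact mapApp_exact 𝒜 ℳ₁ ℳ₂ ℳ₃ u hu v hv hex n hd hf

/-- injectivity in large degrees gives injectivity on sections over `D₊(f)`. -/
theorem mapApp_injective_of_TN (u : M₁ →ₗ[A] M₂) (hu : ∀ (i : ℕ) (m : M₁), m ∈ ℳ₁ i → u m ∈ ℳ₂ i)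
    {n₀ : ℕ} (hinj : ∀ k : ℕ, n₀ ≤ k → ∀ m ∈ ℳ₁ k, u m = 0 → m = 0)
    (n : ℤ) {d : ℕ} (hd : 0 < d) {f : A} (hf : f ∈ 𝒜 d)
    (V : Opens (ProjectiveSpectrum.top 𝒜)) (hV : V = ProjectiveSpectrum.basicOpen 𝒜 f) :
    Function.Injective (GrMod.mapApp u hu n (op V)) := by
  subst hV
  rw [injective_iff_map_eq_zero]
  intro s hs
  obtain ⟨k, i, m, hm, hi, rfl⟩ := exists_eq_powSect 𝒜 ℳ₁ n hd hf s
  rw [mapApp_powSect, powSect_eq_zero_iff 𝒜 ℳ₂ n hd hf] at hs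
  obtain ⟨N, hN⟩ := hs
  rw [powSect_eq_zero_iff 𝒜 ℳ₁ n hd hf]
  refine ⟨N + n₀, ?_⟩
  refine hinj ((N + n₀) * d + i) ?_ _ (SetLike.GradedSMul.smul_mem (pow_mem_graded' 𝒜 hf _) hm) ?_
  · have : n₀ ≤ n₀ * d := Nat.le_mul_of_pos_right _ hd
    nlinarith
  · rw [map_smul, pow_add, mul_comm, mul_smul, hN, smul_zero]

/-- surjectivity in large degrees gives surjectivity on sections over `D₊(f)`. -/
theorem mapApp_surjective_of_TN (u : M₁ →ₗ[A] M₂) (hu : ∀ (i : ℕ) (m : M₁), m ∈ ℳ₁ i → u m ∈ ℳ₂ i)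
    {n₀ : ℕ} (hsurj : ∀ k : ℕ, n₀ ≤ k → ∀ m' ∈ ℳ₂ k, ∃ m ∈ ℳ₁ k, u m = m')
    (n : ℤ) {d : ℕ} (hd : 0 < d) {f : A} (hf : f ∈ 𝒜 d)
    (V : Opens (ProjectiveSpectrum.top 𝒜)) (hV : V = ProjectiveSpectrum.basicOpen 𝒜 f) :
    Function.Surjective (GrMod.mapApp u hu n (op V)) := by
  subst hV
  intro t
  obtain ⟨k, i, m', hm', hi, rfl⟩ := exists_eq_powSect 𝒜 ℳ₂ n hd hf t
  have hdeg : f ^ n₀ • m' ∈ ℳ₂ (n₀ * d + i) := SetLike.GradedSMul.smul_mem (pow_mem_graded' 𝒜 hf _) hm'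
  obtain ⟨m, hm, hum⟩ := hsurj (n₀ * d + i) (by
    have : n₀ ≤ n₀ * d := Nat.le_mul_of_pos_right _ hd
    omega) _ hdeg
  have hi' : ((n₀ * d + i : ℕ) : ℤ) = ((k + n₀ : ℕ) : ℤ) * d + n := by push_cast; rw [hi]; ring
  refine ⟨powSect 𝒜 ℳ₁ n hf (k + n₀) hm hi', ?_⟩
  rw [mapApp_powSect]
  refine sect_ext 𝒜 ℳ₂ _ _ fun x => ?_
  rw [powSect_val, powSect_val, LocalizedModule.mk_eq]
  refine ⟨1, ?_⟩
  rw [hum]
  change (1 : A) • f ^ k • f ^ n₀ • m' = (1 : A) • f ^ (k + n₀) • m'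
  rw [smul_smul (f ^ k), ← pow_add]

end ring

section rel
variable {Y P : Scheme.{u}} (𝒮 : RelProj.QCGrAlg Y) (p : P ⟶ Y)
  (chart : ∀ (U : Y.Opens) (hU : IsAffineOpen U), (((p ⁻¹ᵁ U : P.Opens) : Scheme.{u}) ≅ Proj (𝒮.deg U hU)))

/-- **chart neighbourhoods**: every point of an open `U` of a relative Proj has a neighbourhood inside `U` which is
the image of a `D₊(f)` under a chart immersion. -/
theorem exists_chart_nhd (U : P.Opens) (x : P) (hx : x ∈ U) :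
    ∃ (V : Y.affineOpens) (d : ℕ) (_ : 0 < d) (f : 𝒮.presheaf.obj (op V.1)) (_ : f ∈ 𝒮.deg V.1 V.2 d)
      (W : P.Opens), x ∈ W ∧ W ≤ U ∧ W ≤ p ⁻¹ᵁ V.1 ∧
        (RelProj.emb p chart V.1 V.2 ⁻¹ᵁ W : Opens (ProjectiveSpectrum.top (𝒮.deg V.1 V.2))) =
          ProjectiveSpectrum.basicOpen (𝒮.deg V.1 V.2) f := by
  have hx' : x ∈ (⊤ : P.Opens) := trivial
  rw [← (isOpenCover_emb 𝒮 p chart).iSup_eq_top] at hx'
  obtain ⟨V, hxV⟩ := Opens.mem_iSup.mp hx'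
  obtain ⟨y, rfl⟩ := hxV
  set j := RelProj.emb p chart V.1 V.2 with hj
  have hy : y ∈ j ⁻¹ᵁ U := hx
  obtain ⟨_, ⟨⟨g, d, hd, hg⟩, rfl⟩, hyg, hgU⟩ :=
    Opens.isBasis_iff_nbhd.mp (isBasis_homogBasis (𝒮.deg V.1 V.2)) hy
  refine ⟨V, d, hd, g, hg, j ''ᵁ (Proj.basicOpen (𝒮.deg V.1 V.2) g), ⟨y, hyg, rfl⟩, ?_, ?_, ?_⟩
  · exact (j.image_mono hgU).trans (j.image_preimage_le U)
  · rw [← opensRange_emb 𝒮 p chart V.1 V.2]
    rintro _ ⟨z, -, rfl⟩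
    exact ⟨z, rfl⟩
  · exact j.preimage_image_eq _

variable {𝒮 p chart}
variable {ℳ 𝒩 : RelProj.GrModule 𝒮} {u : ℳ.mod ⟶ 𝒩.mod} (hu : RelProj.IsGrModHom u) {n : ℤ}
  {F : P.Modules}
  {lam : ∀ (U : Y.Opens) (hU : IsAffineOpen U),
    F ⟶ (Scheme.Modules.pushforward (RelProj.emb p chart U hU)).obj (GrMod.tilde (𝒮.deg U hU) (ℳ.deg U hU) n)}
  {G : P.Modules}
  {lam' : ∀ (U : Y.Opens) (hU : IsAffineOpen U),
    G ⟶ (Scheme.Modules.pushforward (RelProj.emb p chart U hU)).obj (GrMod.tilde (𝒮.deg U hU) (𝒩.deg U hU) n)}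
  {ut : F ⟶ G}

/-- the linear map on sections over an affine open underlying a morphism of `𝒮`-modules. -/
abbrev linAt (u : ℳ.mod ⟶ 𝒩.mod) (U : Y.Opens) :
    ℳ.mod.val.obj (op U) →ₗ[𝒮.presheaf.obj (op U)] 𝒩.mod.val.obj (op U) := (u.val.app (op U)).hom

/-- the pinned map `ũ` reads chartwise as `GrMod.mapApp`. -/
lemma lam_ut_app
    (hut : ∀ (U : Y.Opens) (hU : IsAffineOpen U),
      ut ≫ lam' U hU =
        lam U hU ≫ (Scheme.Modules.pushforward (RelProj.emb p chart U hU)).map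
          (GrMod.map (𝒮.deg U hU) (linAt u U) (hu U hU) n))
    (U : Y.Opens) (hU : IsAffineOpen U) (W : P.Opens) (s : Γ(F, W)) :
    (lam' U hU).app W (ut.app W s) =
      GrMod.mapApp (linAt u U) (hu U hU) n (op (RelProj.emb p chart U hU ⁻¹ᵁ W)) ((lam U hU).app W s) := by
  have h := congrArg (fun φ => φ.app W s) (hut U hU)
  exact h


/-- **S8331**: a (TN)-injective homomorphism induces a monomorphism. -/
theorem mono_of_TN_injective (hF : RelProj.IsRelTilde 𝒮 p chart ℳ n F lam)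
    (hG : RelProj.IsRelTilde 𝒮 p chart 𝒩 n G lam')
    (hut : ∀ (U : Y.Opens) (hU : IsAffineOpen U),
      ut ≫ lam' U hU =
        lam U hU ≫ (Scheme.Modules.pushforward (RelProj.emb p chart U hU)).map
          (GrMod.map (𝒮.deg U hU) (linAt u U) (hu U hU) n))
    (hinj : ∃ n₀ : ℕ, ∀ (U : Y.Opens) (hU : IsAffineOpen U) (k : ℕ), n₀ ≤ k →
      ∀ m ∈ ℳ.deg U hU k, (u.val.app (op U)).hom m = 0 → m = 0) : Mono ut := by
  obtain ⟨n₀, hinj⟩ := hinj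
  refine mono_of_injective_app ut fun W a b hab => ?_
  choose V d hd f hf Wx hxW hWW hWV hpre using fun x : W => exists_chart_nhd 𝒮 p chart W x.1 x.2
  refine section_ext_of_cover F Wx hWW (fun x hx => Opens.mem_iSup.mpr ⟨⟨x, hx⟩, hxW ⟨x, hx⟩⟩) a b fun x => ?_
  have h1 := (hF.bijective (V x).1 (V x).2 (Wx x) (hWV x)).1
  have h2 := mapApp_injective_of_TN (𝒮.deg (V x).1 (V x).2) (ℳ.deg (V x).1 (V x).2) (𝒩.deg (V x).1 (V x).2)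
    (linAt u (V x).1) (hu (V x).1 (V x).2) (hinj (V x).1 (V x).2) n (hd x) (hf x) _ (hpre x)
  have h3 : ∀ c : Γ(F, W), (lam' (V x).1 (V x).2).app (Wx x) (ut.app (Wx x) (F.presheaf.map (homOfLE (hWW x)).op c)) =
      (lam' (V x).1 (V x).2).app (Wx x) (G.presheaf.map (homOfLE (hWW x)).op (ut.app W c)) := fun c => by
    rw [app_res]
  have h4 := lam_ut_app hu hut (V x).1 (V x).2 (Wx x) (F.presheaf.map (homOfLE (hWW x)).op a)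
  have h5 := lam_ut_app hu hut (V x).1 (V x).2 (Wx x) (F.presheaf.map (homOfLE (hWW x)).op b)
  refine h1 (h2 ?_)
  exact h4.symm.trans ((h3 a).trans ((congrArg _ (congrArg _ hab)).trans ((h3 b).symm.trans h5)))

/-- **S8332**: a (TN)-surjective homomorphism induces an epimorphism. -/
theorem epi_of_TN_surjective (hF : RelProj.IsRelTilde 𝒮 p chart ℳ n F lam)
    (hG : RelProj.IsRelTilde 𝒮 p chart 𝒩 n G lam')
    (hut : ∀ (U : Y.Opens) (hU : IsAffineOpen U),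
      ut ≫ lam' U hU =
        lam U hU ≫ (Scheme.Modules.pushforward (RelProj.emb p chart U hU)).map
          (GrMod.map (𝒮.deg U hU) (linAt u U) (hu U hU) n))
    (hsurj : ∃ n₀ : ℕ, ∀ (U : Y.Opens) (hU : IsAffineOpen U) (k : ℕ), n₀ ≤ k →
      ∀ m' ∈ 𝒩.deg U hU k, ∃ m ∈ ℳ.deg U hU k, (u.val.app (op U)).hom m = m') : Epi ut := by
  obtain ⟨n₀, hsurj⟩ := hsurj
  refine epi_of_local_lift ut fun U t x hx => ?_
  obtain ⟨V, d, hd, f, hf, W, hxW, hWU, hWV, hpre⟩ := exists_chart_nhd 𝒮 p chart U x hx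
  refine ⟨W, hWU, hxW, ?_⟩
  have h2 := mapApp_surjective_of_TN (𝒮.deg V.1 V.2) (ℳ.deg V.1 V.2) (𝒩.deg V.1 V.2)
    (linAt u V.1) (hu V.1 V.2) (hsurj V.1 V.2) n hd hf _ hpre
  obtain ⟨σ, hσ⟩ := h2 ((lam' V.1 V.2).app W (G.presheaf.map (homOfLE hWU).op t))
  obtain ⟨s, hs⟩ := (hF.bijective V.1 V.2 W hWV).2 σ
  have h4 := lam_ut_app hu hut V.1 V.2 W s
  refine ⟨s, (hG.bijective V.1 V.2 W hWV).1 ?_⟩
  exact h4.trans ((congrArg _ hs).trans hσ)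

end rel

section exact
variable {Y P : Scheme.{u}} {𝒮 : RelProj.QCGrAlg Y} {p : P ⟶ Y}
  {chart : ∀ (U : Y.Opens) (hU : IsAffineOpen U), (((p ⁻¹ᵁ U : P.Opens) : Scheme.{u}) ≅ Proj (𝒮.deg U hU))}
variable {ℳ₁ ℳ₂ ℳ₃ : RelProj.GrModule 𝒮} {u : ℳ₁.mod ⟶ ℳ₂.mod} (hu : RelProj.IsGrModHom u)
  {v : ℳ₂.mod ⟶ ℳ₃.mod} (hv : RelProj.IsGrModHom v) {n : ℤ}
  {F₁ F₂ F₃ : P.Modules}
  {lam₁ : ∀ (U : Y.Opens) (hU : IsAffineOpen U),
    F₁ ⟶ (Scheme.Modules.pushforward (RelProj.emb p chart U hU)).obj (GrMod.tilde (𝒮.deg U hU) (ℳ₁.deg U hU) n)}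
  {lam₂ : ∀ (U : Y.Opens) (hU : IsAffineOpen U),
    F₂ ⟶ (Scheme.Modules.pushforward (RelProj.emb p chart U hU)).obj (GrMod.tilde (𝒮.deg U hU) (ℳ₂.deg U hU) n)}
  {lam₃ : ∀ (U : Y.Opens) (hU : IsAffineOpen U),
    F₃ ⟶ (Scheme.Modules.pushforward (RelProj.emb p chart U hU)).obj (GrMod.tilde (𝒮.deg U hU) (ℳ₃.deg U hU) n)}
  {ut : F₁ ⟶ F₂} {vt : F₂ ⟶ F₃}

/-- **S8330**: exactness of `ℳ ↦ (ℳ(n))~` on a relative Proj. -/
theorem exact_relTilde (hF₁ : RelProj.IsRelTilde 𝒮 p chart ℳ₁ n F₁ lam₁)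
    (hF₂ : RelProj.IsRelTilde 𝒮 p chart ℳ₂ n F₂ lam₂) (hF₃ : RelProj.IsRelTilde 𝒮 p chart ℳ₃ n F₃ lam₃)
    (hex : ∀ (U : Y.Opens) (hU : IsAffineOpen U), Function.Exact (u.val.app (op U)).hom (v.val.app (op U)).hom)
    (hut : ∀ (U : Y.Opens) (hU : IsAffineOpen U),
      ut ≫ lam₂ U hU =
        lam₁ U hU ≫ (Scheme.Modules.pushforward (RelProj.emb p chart U hU)).map
          (GrMod.map (𝒮.deg U hU) (linAt u U) (hu U hU) n))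
    (hvt : ∀ (U : Y.Opens) (hU : IsAffineOpen U),
      vt ≫ lam₃ U hU =
        lam₂ U hU ≫ (Scheme.Modules.pushforward (RelProj.emb p chart U hU)).map
          (GrMod.map (𝒮.deg U hU) (linAt v U) (hv U hU) n))
    (w : ut ≫ vt = 0) : (ShortComplex.mk ut vt w).Exact := by
  refine exact_of_local fun U t ht x hx => ?_
  obtain ⟨V, d, hd, f, hf, W, hxW, hWU, hWV, hpre⟩ := exists_chart_nhd 𝒮 p chart U x hx
  refine ⟨W, hWU, hxW, ?_⟩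
  have hexW := mapApp_exact' (𝒮.deg V.1 V.2) (ℳ₁.deg V.1 V.2) (ℳ₂.deg V.1 V.2) (ℳ₃.deg V.1 V.2)
    (linAt u V.1) (hu V.1 V.2) (linAt v V.1) (hv V.1 V.2) (hex V.1 V.2) n hd hf _ hpre
  have ht' : vt.app U t = 0 := ht
  have h3 : vt.app W (F₂.presheaf.map (homOfLE hWU).op t) = 0 := by
    rw [app_res, ht', map_zero]
  have h4 := lam_ut_app hv hvt V.1 V.2 W (F₂.presheaf.map (homOfLE hWU).op t)
  have h0 : GrMod.mapApp (linAt v V.1) (hv V.1 V.2) n (op (RelProj.emb p chart V.1 V.2 ⁻¹ᵁ W))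
      ((lam₂ V.1 V.2).app W (F₂.presheaf.map (homOfLE hWU).op t)) = 0 :=
    h4.symm.trans ((congrArg _ h3).trans (map_zero _))
  obtain ⟨σ, hσ⟩ := (hexW _).1 h0
  obtain ⟨s, hs⟩ := (hF₁.bijective V.1 V.2 W hWV).2 σ
  have h5 := lam_ut_app hu hut V.1 V.2 W s
  refine ⟨s, (hF₂.bijective V.1 V.2 W hWV).1 ?_⟩
  exact h5.trans ((congrArg _ hs).trans hσ)

end exact

end Groth.Agent.H8.RelTilde
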