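import Mathlib
import Groth.Prelude.Def_RelProj3
import Groth.Agent.Lib.Helper2.ModGlue
import Groth.Agent.Lib.Helper8.RelTilde.Exact

set_option autoImplicit false
universe u
open AlgebraicGeometry CategoryTheory CategoryTheory.Limits Opposite TopologicalSpace

namespace Groth.Agent.H8.RelTilde

open Groth.Agent.LD.QC Groth.Agent.H8.ProjTilde

section general
variable {X Z : Scheme.{u}} (j : Z ⟶ X) [IsOpenImmersion j] {F : X.Modules} {T : Z.Modules}

/-- morphisms into a direct image along an open immersion are determined on opens inside the range. -/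
lemma hom_ext_pushforward (α β : F ⟶ (Scheme.Modules.pushforward j).obj T)
    (h : ∀ W : X.Opens, W ≤ j.opensRange → α.app W = β.app W) : α = β := by
  apply ((Scheme.Modules.restrictAdjunction j).homEquiv F T).symm.injective
  refine Scheme.Modules.hom_ext _ _ fun V => ?_
  have h1 := adj_app j F T α V
  have h2 := adj_app j F T β V
  unfold adj at h1 h2
  rw [h1, h2, h (j ''ᵁ V) (j.image_le_opensRange V)]

end general

section rel
variable {Y P : Scheme.{u}} {𝒮 : RelProj.QCGrAlg Y} {p : P ⟶ Y}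
  {chart : ∀ (U : Y.Opens) (hU : IsAffineOpen U), (((p ⁻¹ᵁ U : P.Opens) : Scheme.{u}) ≅ Proj (𝒮.deg U hU))}

/-- the image point under the chart of the smaller open. -/
lemma emb_comap (hP : RelProj.IsRelProj 𝒮 p chart) (V : Y.Opens) (hV : IsAffineOpen V) (r : Γ(Y, V))
    (y : ProjectiveSpectrum (𝒮.deg (Y.basicOpen r) (hV.basicOpen r))) :
    (RelProj.emb p chart V hV).base (ProjectiveSpectrum.comap
      (𝒮.res hV (hV.basicOpen r) (Y.basicOpen_le r)) (𝒮.irrelevant_le_map V hV r) y) =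
      (RelProj.emb p chart (Y.basicOpen r) (hV.basicOpen r)).base y := by
  have h := RelProj.map_res_emb hP V hV r
  have h2 := congrArg (fun φ : Proj (𝒮.deg (Y.basicOpen r) (hV.basicOpen r)) ⟶ P => φ.base y) h
  exact h2

/-- the opens `W ≤ p⁻¹(V)`, `V` affine, form a basis of `P`. -/
def chartIdx (𝒮 : RelProj.QCGrAlg Y) (p : P ⟶ Y) : Type u :=
  Σ V : Y.affineOpens, {W : P.Opens // W ≤ p ⁻¹ᵁ V.1}

def chartBasis (i : chartIdx 𝒮 p) : P.Opens := i.2.1

lemma isBasis_chartBasis : Opens.IsBasis (Set.range (chartBasis (𝒮 := 𝒮) (p := p))) := by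
  rw [Opens.isBasis_iff_nbhd]
  intro U x hx
  have hx' : p.base x ∈ (⊤ : Y.Opens) := trivial
  rw [← iSup_affineOpens_eq_top Y] at hx'
  obtain ⟨V, hV⟩ := Opens.mem_iSup.mp hx'
  exact ⟨U ⊓ p ⁻¹ᵁ V.1, ⟨⟨V, U ⊓ p ⁻¹ᵁ V.1, inf_le_right⟩, rfl⟩, ⟨hx, hV⟩, inf_le_left⟩

variable {ℳ 𝒩 : RelProj.GrModule 𝒮} {n n' : ℤ} {F G : P.Modules}
  {lam : ∀ (U : Y.Opens) (hU : IsAffineOpen U),
    F ⟶ (Scheme.Modules.pushforward (RelProj.emb p chart U hU)).obj (GrMod.tilde (𝒮.deg U hU) (ℳ.deg U hU) n)}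
  {lam' : ∀ (U : Y.Opens) (hU : IsAffineOpen U),
    G ⟶ (Scheme.Modules.pushforward (RelProj.emb p chart U hU)).obj (GrMod.tilde (𝒮.deg U hU) (𝒩.deg U hU) n')}

/-- **cross-chart compatibility** of a family of chartwise morphisms `(ℳ(U)(n))~ ⟶ (𝒩(U)(n'))~`. -/
def CrossCompat (ψ : ∀ (U : Y.Opens) (hU : IsAffineOpen U),
    (Scheme.Modules.pushforward (RelProj.emb p chart U hU)).obj (GrMod.tilde (𝒮.deg U hU) (ℳ.deg U hU) n) ⟶
      (Scheme.Modules.pushforward (RelProj.emb p chart U hU)).obj (GrMod.tilde (𝒮.deg U hU) (𝒩.deg U hU) n')) :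
    Prop :=
  ∀ (V : Y.Opens) (hV : IsAffineOpen V) (r : Γ(Y, V)) (W : P.Opens)
    (tV : Γ((Scheme.Modules.pushforward (RelProj.emb p chart V hV)).obj
      (GrMod.tilde (𝒮.deg V hV) (ℳ.deg V hV) n), W))
    (tD : Γ((Scheme.Modules.pushforward (RelProj.emb p chart (Y.basicOpen r) (hV.basicOpen r))).obj
      (GrMod.tilde (𝒮.deg (Y.basicOpen r) (hV.basicOpen r)) (ℳ.deg (Y.basicOpen r) (hV.basicOpen r)) n), W)),
    (∀ (y : ProjectiveSpectrum (𝒮.deg (Y.basicOpen r) (hV.basicOpen r)))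
      (hy : (RelProj.emb p chart (Y.basicOpen r) (hV.basicOpen r)).base y ∈ W)
      (hy' : (RelProj.emb p chart V hV).base (ProjectiveSpectrum.comap
        (𝒮.res hV (hV.basicOpen r) (Y.basicOpen_le r)) (𝒮.irrelevant_le_map V hV r) y) ∈ W),
      GrMod.val (V := RelProj.emb p chart (Y.basicOpen r) (hV.basicOpen r) ⁻¹ᵁ W) tD ⟨y, hy⟩ =
        GrMod.locModMap (𝒮.res hV (hV.basicOpen r) (Y.basicOpen_le r)) (𝒮.irrelevant_le_map V hV r)
          (ℳ.res hV (hV.basicOpen r) (Y.basicOpen_le r)) y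
          (GrMod.val (V := RelProj.emb p chart V hV ⁻¹ᵁ W) tV ⟨_, hy'⟩)) →
    ∀ (y : ProjectiveSpectrum (𝒮.deg (Y.basicOpen r) (hV.basicOpen r)))
      (hy : (RelProj.emb p chart (Y.basicOpen r) (hV.basicOpen r)).base y ∈ W)
      (hy' : (RelProj.emb p chart V hV).base (ProjectiveSpectrum.comap
        (𝒮.res hV (hV.basicOpen r) (Y.basicOpen_le r)) (𝒮.irrelevant_le_map V hV r) y) ∈ W),
      GrMod.val (V := RelProj.emb p chart (Y.basicOpen r) (hV.basicOpen r) ⁻¹ᵁ W)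
          ((ψ (Y.basicOpen r) (hV.basicOpen r)).app W tD) ⟨y, hy⟩ =
        GrMod.locModMap (𝒮.res hV (hV.basicOpen r) (Y.basicOpen_le r)) (𝒮.irrelevant_le_map V hV r)
          (𝒩.res hV (hV.basicOpen r) (Y.basicOpen_le r)) y
          (GrMod.val (V := RelProj.emb p chart V hV ⁻¹ᵁ W) ((ψ V hV).app W tV) ⟨_, hy'⟩)

variable (hG : RelProj.IsRelTilde 𝒮 p chart 𝒩 n' G lam')
  (ψ : ∀ (U : Y.Opens) (hU : IsAffineOpen U),
    (Scheme.Modules.pushforward (RelProj.emb p chart U hU)).obj (GrMod.tilde (𝒮.deg U hU) (ℳ.deg U hU) n) ⟶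
      (Scheme.Modules.pushforward (RelProj.emb p chart U hU)).obj (GrMod.tilde (𝒮.deg U hU) (𝒩.deg U hU) n'))

/-- the chartwise candidate for the glued morphism. -/
noncomputable def phi (lam : ∀ (U : Y.Opens) (hU : IsAffineOpen U),
    F ⟶ (Scheme.Modules.pushforward (RelProj.emb p chart U hU)).obj (GrMod.tilde (𝒮.deg U hU) (ℳ.deg U hU) n))
    (V : Y.Opens) (hV : IsAffineOpen V) (W : P.Opens) (hW : W ≤ p ⁻¹ᵁ V) (s : Γ(F, W)) :
    Γ(G, W) :=
  (Equiv.ofBijective _ (hG.bijective V hV W hW)).symm ((ψ V hV).app W ((lam V hV).app W s))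

lemma lam'_phi (V : Y.Opens) (hV : IsAffineOpen V) (W : P.Opens) (hW : W ≤ p ⁻¹ᵁ V) (s : Γ(F, W)) :
    (lam' V hV).app W (phi hG ψ lam V hV W hW s) = (ψ V hV).app W ((lam V hV).app W s) :=
  (Equiv.ofBijective _ (hG.bijective V hV W hW)).apply_symm_apply _

lemma phi_eq_of (V : Y.Opens) (hV : IsAffineOpen V) (W : P.Opens) (hW : W ≤ p ⁻¹ᵁ V) (s : Γ(F, W))
    (g : Γ(G, W)) (h : (lam' V hV).app W g = (ψ V hV).app W ((lam V hV).app W s)) :
    phi hG ψ lam V hV W hW s = g :=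
  (hG.bijective V hV W hW).1 ((lam'_phi hG ψ V hV W hW s).trans h.symm)

/-- naturality in `W` for a fixed chart. -/
lemma phi_res (V : Y.Opens) (hV : IsAffineOpen V) (W W' : P.Opens) (hW : W ≤ p ⁻¹ᵁ V) (h : W' ≤ W)
    (s : Γ(F, W)) :
    G.presheaf.map (homOfLE h).op (phi hG ψ lam V hV W hW s) =
      phi hG ψ lam V hV W' (h.trans hW) (F.presheaf.map (homOfLE h).op s) := by
  symm
  apply phi_eq_of
  have e1 := app_res (lam' V hV) h (phi hG ψ lam V hV W hW s)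
  have e2 := app_res (ψ V hV) h ((lam V hV).app W s)
  have e3 := app_res (lam V hV) h s
  exact e1.trans ((congrArg _ (lam'_phi hG ψ V hV W hW s)).trans (e2.symm.trans (congrArg _ e3.symm)))

/-- independence of the proof/presentation of the chart. -/
lemma phi_congr (D₁ D₂ : Y.Opens) (h : D₁ = D₂) (hD₁ : IsAffineOpen D₁) (hD₂ : IsAffineOpen D₂)
    (W : P.Opens) (h₁ : W ≤ p ⁻¹ᵁ D₁) (h₂ : W ≤ p ⁻¹ᵁ D₂) (s : Γ(F, W)) :
    phi hG ψ lam D₁ hD₁ W h₁ s = phi hG ψ lam D₂ hD₂ W h₂ s := by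
  subst h
  rfl

variable (hP : RelProj.IsRelProj 𝒮 p chart) (hF : RelProj.IsRelTilde 𝒮 p chart ℳ n F lam)
  (hψ : CrossCompat ψ)

include hP hF hψ in
/-- the candidate over a basic open agrees with the candidate over the ambient affine open. -/
lemma phi_basic (V : Y.Opens) (hV : IsAffineOpen V) (r : Γ(Y, V)) (W : P.Opens)
    (hWD : W ≤ p ⁻¹ᵁ (Y.basicOpen r)) (s : Γ(F, W)) :
    phi hG ψ lam (Y.basicOpen r) (hV.basicOpen r) W hWD s =
      phi hG ψ lam V hV W (hWD.trans (p.preimage_mono (Y.basicOpen_le r))) s := by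
  apply phi_eq_of
  set g := phi hG ψ lam V hV W (hWD.trans (p.preimage_mono (Y.basicOpen_le r))) s with hg
  refine sect_ext _ _ _ _ fun y0 => ?_
  obtain ⟨y, hy⟩ : (RelProj.emb p chart (Y.basicOpen r) (hV.basicOpen r) ⁻¹ᵁ W :
    Opens (ProjectiveSpectrum.top (𝒮.deg (Y.basicOpen r) (hV.basicOpen r)))) := y0
  have hy' : (RelProj.emb p chart V hV).base (ProjectiveSpectrum.comap
      (𝒮.res hV (hV.basicOpen r) (Y.basicOpen_le r)) (𝒮.irrelevant_le_map V hV r) y) ∈ W := by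
    rw [emb_comap hP]; exact hy
  have e1 := hG.compat V hV r W g y hy hy'
  have e2 := hψ V hV r W ((lam V hV).app W s) ((lam (Y.basicOpen r) (hV.basicOpen r)).app W s)
    (fun y hy hy' => hF.compat V hV r W s y hy hy') y hy hy'
  have e3 := lam'_phi (lam := lam) hG ψ V hV W (hWD.trans (p.preimage_mono (Y.basicOpen_le r))) s
  rw [← hg] at e3
  rw [e3] at e1
  exact e1.trans e2.symm

include hP hF hψ in
/-- **independence of the chart.** -/
lemma phi_indep (V V' : Y.Opens) (hV : IsAffineOpen V) (hV' : IsAffineOpen V') (W : P.Opens)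
    (hW : W ≤ p ⁻¹ᵁ V) (hW' : W ≤ p ⁻¹ᵁ V') (s : Γ(F, W)) :
    phi hG ψ lam V hV W hW s = phi hG ψ lam V' hV' W hW' s := by
  have hloc : ∀ x : W, ∃ (f : Γ(Y, V)) (g : Γ(Y, V')), Y.basicOpen f = Y.basicOpen g ∧
      p.base x.1 ∈ Y.basicOpen f := fun x =>
    exists_basicOpen_le_affine_inter hV hV' (p.base x.1) ⟨hW x.2, hW' x.2⟩
  choose f g hfg hxf using hloc
  refine section_ext_of_cover G (fun x : W => W ⊓ p ⁻¹ᵁ (Y.basicOpen (f x))) (fun x => inf_le_left)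
    (fun x hx => Opens.mem_iSup.mpr ⟨⟨x, hx⟩, hx, hxf ⟨x, hx⟩⟩) _ _ fun x => ?_
  rw [phi_res hG ψ V hV W _ hW inf_le_left, phi_res hG ψ V' hV' W _ hW' inf_le_left,
    ← phi_basic hG ψ hP hF hψ V hV (f x) _ inf_le_right,
    ← phi_basic hG ψ hP hF hψ V' hV' (g x) _ ((hfg x) ▸ inf_le_right)]
  exact phi_congr hG ψ _ _ (hfg x) _ _ _ _ _ _

/-- the candidate as a linear map on a basis element. -/
noncomputable def phiLin (i : chartIdx 𝒮 p) :
    Γ(F, chartBasis i) →ₗ[Γ(P, chartBasis i)] Γ(G, chartBasis i) where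
  toFun := phi hG ψ lam i.1.1 i.1.2 i.2.1 i.2.2
  map_add' a b := by
    apply phi_eq_of
    have e1 := lam'_phi (lam := lam) hG ψ i.1.1 i.1.2 i.2.1 i.2.2 a
    have e2 := lam'_phi (lam := lam) hG ψ i.1.1 i.1.2 i.2.1 i.2.2 b
    have e3 : (lam' i.1.1 i.1.2).app i.2.1 (phi hG ψ lam i.1.1 i.1.2 i.2.1 i.2.2 a +
        phi hG ψ lam i.1.1 i.1.2 i.2.1 i.2.2 b) = _ := map_add _ _ _
    have e4 : (ψ i.1.1 i.1.2).app i.2.1 ((lam i.1.1 i.1.2).app i.2.1 (a + b)) =
        (ψ i.1.1 i.1.2).app i.2.1 ((lam i.1.1 i.1.2).app i.2.1 a) +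
          (ψ i.1.1 i.1.2).app i.2.1 ((lam i.1.1 i.1.2).app i.2.1 b) := by
      have : (lam i.1.1 i.1.2).app i.2.1 (a + b) = _ := map_add _ _ _
      exact (congrArg _ this).trans (map_add _ _ _)
    exact e3.trans ((congrArg₂ (· + ·) e1 e2).trans e4.symm)
  map_smul' r a := by
    apply phi_eq_of
    have e1 := lam'_phi (lam := lam) hG ψ i.1.1 i.1.2 i.2.1 i.2.2 a
    have e3 := (lam' i.1.1 i.1.2).app_smul r (phi hG ψ lam i.1.1 i.1.2 i.2.1 i.2.2 a)
    have e4 := (lam i.1.1 i.1.2).app_smul r a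
    have e5 := (ψ i.1.1 i.1.2).app_smul r ((lam i.1.1 i.1.2).app i.2.1 a)
    exact e3.trans ((congrArg _ e1).trans (e5.symm.trans (congrArg _ e4.symm)))

include hP hF hψ in
lemma phiLin_nat (i j : chartIdx 𝒮 p) (h : chartBasis j ≤ chartBasis i) (s : Γ(F, chartBasis i)) :
    G.presheaf.map (homOfLE h).op (phiLin hG ψ (lam := lam) i s) =
      phiLin hG ψ (lam := lam) j (F.presheaf.map (homOfLE h).op s) := by
  change G.presheaf.map (homOfLE h).op (phi hG ψ lam i.1.1 i.1.2 i.2.1 i.2.2 s) =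
    phi hG ψ lam j.1.1 j.1.2 j.2.1 j.2.2 (F.presheaf.map (homOfLE h).op s)
  have h' : j.2.1 ≤ i.2.1 := h
  exact (phi_res hG ψ i.1.1 i.1.2 i.2.1 j.2.1 i.2.2 h' s).trans
    (phi_indep hG ψ hP hF hψ i.1.1 j.1.1 i.1.2 j.1.2 j.2.1 (h'.trans i.2.2) j.2.2 _)

/-- **the glued morphism.** -/
noncomputable def glue : F ⟶ G :=
  Groth.Agent.H2.ModGlue.homOfBasis (chartBasis (𝒮 := 𝒮) (p := p)) isBasis_chartBasis F G
    (phiLin hG ψ (lam := lam)) (phiLin_nat hG ψ hP hF hψ)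

lemma glue_app (V : Y.Opens) (hV : IsAffineOpen V) (W : P.Opens) (hW : W ≤ p ⁻¹ᵁ V) (s : Γ(F, W)) :
    (glue hG ψ hP hF hψ).app W s = phi hG ψ lam V hV W hW s :=
  Groth.Agent.H2.ModGlue.homOfBasis_app (chartBasis (𝒮 := 𝒮) (p := p)) isBasis_chartBasis F G
    (phiLin hG ψ (lam := lam)) (phiLin_nat hG ψ hP hF hψ) ⟨⟨V, hV⟩, W, hW⟩ s

include hG hP hF hψ in
/-- **existence and uniqueness of the glued morphism.** -/
theorem existsUnique_glue :
    ∃! ut : F ⟶ G, ∀ (U : Y.Opens) (hU : IsAffineOpen U), ut ≫ lam' U hU = lam U hU ≫ ψ U hU := by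
  refine ⟨glue hG ψ hP hF hψ, fun U hU => ?_, fun ut' hut' => ?_⟩
  · refine hom_ext_pushforward _ _ _ fun W hW => ?_
    rw [opensRange_emb] at hW
    ext s
    have e1 := glue_app hG ψ hP hF hψ U hU W hW s
    have e2 := lam'_phi (lam := lam) hG ψ U hU W hW s
    exact (congrArg _ e1).trans e2
  · refine Scheme.Modules.hom_ext _ _ fun U => ?_
    ext s
    refine section_ext_of_cover G (fun i : {i : chartIdx 𝒮 p // chartBasis i ≤ U} => chartBasis i.1)
      (fun i => i.2) (Groth.Agent.H2.ModGlue.le_iSup_basis _ isBasis_chartBasis U) _ _ fun i => ?_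
    rw [← app_res, ← app_res]
    obtain ⟨⟨⟨V, hV⟩, W, hW⟩, hWU⟩ := i
    change ut'.app W (F.presheaf.map (homOfLE hWU).op s) =
      (glue hG ψ hP hF hψ).app W (F.presheaf.map (homOfLE hWU).op s)
    rw [glue_app hG ψ hP hF hψ V hV W hW]
    symm
    apply phi_eq_of
    exact congrArg (fun φ => φ.app W (F.presheaf.map (homOfLE hWU).op s)) (hut' V hV)

end rel

end Groth.Agent.H8.RelTilde
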