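import Mathlib
import Groth.Prelude.Def_RelProj3
import Groth.Agent.Lib.Lead.QC.SubExt
import Groth.Agent.Lib.Helper8.RelTilde.Exact
import Groth.Agent.Lib.Helper8.ProjTilde.FinType

set_option autoImplicit false
universe u
open AlgebraicGeometry CategoryTheory CategoryTheory.Limits Opposite TopologicalSpace

namespace Groth.Agent.H8.RelTilde

open Groth.Agent.LD.QC Groth.Agent.H8.ProjTilde

section ring
variable {A σ : Type u} [CommRing A] [SetLike σ A] [AddSubgroupClass σ A] (𝒜 : ℕ → σ) [GradedRing 𝒜]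

/-- generation by degrees `0` and `1` plus finite generation of `𝒜 1` over `𝒜 0` gives finitely many degree-one
algebra generators. -/
lemma adjoin_eq_top_of_genDegOne (hgen : Subring.closure ((𝒜 0 : Set A) ∪ (𝒜 1 : Set A)) = ⊤)
    (T : Finset A) (hT : ∀ x ∈ 𝒜 1, ∃ c : A → A, (∀ t, c t ∈ 𝒜 0) ∧ x = ∑ t ∈ T, c t * t) :
    Algebra.adjoin (𝒜 0) (Set.range fun t : T => (t : A)) = ⊤ := by
  rw [eq_top_iff]
  intro a _
  have ha : a ∈ Subring.closure ((𝒜 0 : Set A) ∪ (𝒜 1 : Set A)) := by rw [hgen]; trivial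
  have hle : Subring.closure ((𝒜 0 : Set A) ∪ (𝒜 1 : Set A)) ≤
      (Algebra.adjoin (𝒜 0) (Set.range fun t : T => (t : A))).toSubring := by
    rw [Subring.closure_le]
    rintro x (hx | hx)
    · exact Subalgebra.algebraMap_mem _ (⟨x, hx⟩ : 𝒜 0)
    · obtain ⟨c, hc, rfl⟩ := hT x hx
      refine Subalgebra.sum_mem _ fun t ht => Subalgebra.mul_mem _ ?_ ?_
      · exact Subalgebra.algebraMap_mem _ (⟨c t, hc t⟩ : 𝒜 0)
      · exact Algebra.subset_adjoin ⟨⟨t, ht⟩, rfl⟩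
  exact hle ha

variable {M τ : Type u} [AddCommGroup M] [Module A M] [SetLike τ M] [AddSubgroupClass τ M] (ℳ : ℕ → τ)
variable [SetLike.GradedSMul 𝒜 ℳ] [DirectSum.Decomposition ℳ]

/-- **`M(n)~` is of finite type** (`n ≤ 0`) under (TF), for `𝒜` generated by finitely many homogeneous elements
(general gradings). -/
theorem tilde_isFiniteType_of_TF' (n : ℤ) (hn : n ≤ 0)
    {ι : Type*} [Fintype ι] (g : ι → A) (dg : ι → ℕ) (hg : ∀ i, g i ∈ 𝒜 (dg i))
    (hadj : Algebra.adjoin (𝒜 0) (Set.range g) = ⊤)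
    (hTF : ∃ n₀ : ℕ, (Submodule.span A (⋃ k ∈ Set.Ici n₀, (ℳ k : Set M))).FG) :
    (GrMod.tilde 𝒜 ℳ n).IsFiniteType := by
  classical
  obtain ⟨n₀, T, hT⟩ := hTF
  let J := Σ x : T, (DirectSum.decompose ℳ (x : M)).support
  let mm : J → M := fun p => (DirectSum.decompose ℳ (p.1 : M) p.2 : M)
  refine tilde_isFiniteType 𝒜 ℳ n hn g dg hg hadj mm (fun p => p.2)
    (fun p => (DirectSum.decompose ℳ (p.1 : M) p.2).2) ⟨n₀, fun t ht m hm => ?_⟩
  have h1 : m ∈ Submodule.span A (⋃ k ∈ Set.Ici n₀, (ℳ k : Set M)) :=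
    Submodule.subset_span (Set.mem_biUnion (Set.mem_Ici.mpr ht) hm)
  rw [← hT] at h1
  refine Submodule.span_le.mpr ?_ h1
  intro x hx
  rw [SetLike.mem_coe, ← DirectSum.sum_support_decompose ℳ x]
  refine Submodule.sum_mem _ fun k hk => Submodule.subset_span ⟨⟨⟨x, hx⟩, ⟨k, hk⟩⟩, rfl⟩

end ring

section general
variable {X : Scheme.{u}}

/-- finite type is local for open immersions. -/
theorem isFiniteType_of_restrict (F : X.Modules)
    (h : ∀ x : X, ∃ (Z : Scheme.{u}) (j : Z ⟶ X) (_ : IsOpenImmersion j),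
      x ∈ Set.range j.base ∧ (F.restrict j).IsFiniteType) : F.IsFiniteType := by
  rw [isFiniteType_iff_forall_exists]
  intro x
  obtain ⟨Z, j, _, ⟨y, rfl⟩, hFT⟩ := h x
  obtain ⟨W', hyW', σ', hσ'⟩ := (isFiniteType_iff_forall_exists (F.restrict j)).mp hFT y
  let k : (W' : Scheme.{u}) ⟶ X := W'.ι ≫ j
  let e : (F.restrict j).restrict W'.ι ≅ F.restrict k :=
    (Scheme.Modules.restrictFunctorComp W'.ι j).symm.app F
  let σ'' : (F.restrict k).GeneratingSections := σ'.ofEpi e.hom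
  have hr : Set.range (k.opensRange.ι).base ⊆ Set.range k.base := by
    rw [Scheme.Opens.range_ι]; rfl
  refine ⟨k.opensRange, ⟨⟨y, hyW'⟩, rfl⟩, genOfLE F k k.opensRange.ι hr σ'', hσ'⟩

end general

section rel
variable {Y P : Scheme.{u}} {𝒮 : RelProj.QCGrAlg Y} {p : P ⟶ Y}
  {chart : ∀ (U : Y.Opens) (hU : IsAffineOpen U), (((p ⁻¹ᵁ U : P.Opens) : Scheme.{u}) ≅ Proj (𝒮.deg U hU))}

/-- **S8325**: `ℳ~` on a relative Proj is of finite type under (TF). -/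
theorem relTilde_isFiniteType (hgen : 𝒮.IsGenDegOne) (hft : 𝒮.IsFTDeg 1) {ℳ : RelProj.GrModule 𝒮}
    (hTF : ℳ.IsTF) {F : P.Modules}
    {lam : ∀ (U : Y.Opens) (hU : IsAffineOpen U),
      F ⟶ (Scheme.Modules.pushforward (RelProj.emb p chart U hU)).obj (GrMod.tilde (𝒮.deg U hU) (ℳ.deg U hU) 0)}
    (hF : RelProj.IsRelTilde 𝒮 p chart ℳ 0 F lam) : F.IsFiniteType := by
  classical
  refine isFiniteType_of_restrict F fun x => ?_
  have hx' : x ∈ (⊤ : P.Opens) := trivial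
  rw [← (isOpenCover_emb 𝒮 p chart).iSup_eq_top] at hx'
  obtain ⟨V, hxV⟩ := Opens.mem_iSup.mp hx'
  refine ⟨_, RelProj.emb p chart V.1 V.2, inferInstance, hxV, ?_⟩
  haveI := isIso_adj_relTilde hF V.1 V.2
  haveI hq := tilde_isQuasicoherent (𝒮.deg V.1 V.2) (ℳ.deg V.1 V.2) 0
  obtain ⟨T, hT1, hT⟩ := hft V.1 V.2
  obtain ⟨n₀, hn₀⟩ := hTF
  have hadj := adjoin_eq_top_of_genDegOne (𝒮.deg V.1 V.2) (hgen V.1 V.2) T (fun x hx => by
    obtain ⟨c, hc⟩ := hT x hx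
    exact ⟨fun t => (𝒮.str.app (op V.1)).hom (c t), fun t => 𝒮.str_mem V.1 V.2 (c t), hc⟩)
  have hFT : (GrMod.tilde (𝒮.deg V.1 V.2) (ℳ.deg V.1 V.2) 0).IsFiniteType :=
    tilde_isFiniteType_of_TF' (𝒮.deg V.1 V.2) (ℳ.deg V.1 V.2) 0 le_rfl (fun t : T => (t : 𝒮.presheaf.obj (op V.1)))
      (fun _ => 1) (fun t => hT1 t.2) hadj ⟨n₀, hn₀ V.1 V.2⟩
  exact isFiniteType_of_iso (asIso (adj (RelProj.emb p chart V.1 V.2) F _ (lam V.1 V.2))).symm hFT

end rel

end Groth.Agent.H8.RelTilde
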