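import Mathlib
import Groth.Prelude.Def_RelProj3
import Groth.Agent.Lib.Helper8.RelTilde.FinType
import Groth.Agent.Lib.Helper8.ProjTilde.Serre1

set_option autoImplicit false
universe u
open AlgebraicGeometry CategoryTheory CategoryTheory.Limits Opposite TopologicalSpace

namespace Groth.Agent.H8.RelTilde

open Groth.Agent.LD.QC Groth.Agent.H8.ProjTilde

section ring
variable {A σ : Type u} [CommRing A] [SetLike σ A] [AddSubgroupClass σ A] (𝒜 : ℕ → σ) [GradedRing 𝒜]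

/-- homogeneous algebra generators generate the irrelevant ideal (general gradings; after Mathlib's
`Proj.iSup_basicOpen_eq_top'`). -/
lemma irrelevant_le_span_of_adjoin {ι : Type*} (f : ι → A) (hfn : ∀ i, ∃ n, f i ∈ 𝒜 n)
    (hf : Algebra.adjoin (𝒜 0) (Set.range f) = ⊤) :
    (HomogeneousIdeal.irrelevant 𝒜).toIdeal ≤ Ideal.span (Set.range f) := by
  classical
  intro x hx
  convert_to x - GradedRing.projZeroRingHom 𝒜 x ∈ _
  · rw [GradedRing.projZeroRingHom_apply, ← GradedRing.proj_apply,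
      (HomogeneousIdeal.mem_irrelevant_iff _ _).mp hx, sub_zero]
  clear hx
  have := (eq_iff_iff.mp congr(x ∈ $hf)).mpr trivial
  induction this using Algebra.adjoin_induction with
  | mem x hx =>
    obtain ⟨i, rfl⟩ := hx
    obtain ⟨n, hn⟩ := hfn i
    rw [GradedRing.projZeroRingHom_apply]
    by_cases hn' : n = 0
    · rw [DirectSum.decompose_of_mem_same 𝒜 (hn' ▸ hn), sub_self]
      exact zero_mem _
    · rw [DirectSum.decompose_of_mem_ne 𝒜 hn hn', sub_zero]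
      exact Ideal.subset_span ⟨_, rfl⟩
  | algebraMap r =>
    convert! zero_mem (Ideal.span _)
    rw [sub_eq_zero]
    exact (DirectSum.decompose_of_mem_same 𝒜 r.2).symm
  | add x y hx hy _ _ =>
    rw [map_add, add_sub_add_comm]
    exact add_mem ‹_› ‹_›
  | mul x y hx hy hx' hy' =>
    convert!
      add_mem (Ideal.mul_mem_left _ x hy')
        (Ideal.mul_mem_right (GradedRing.projZeroRingHom 𝒜 y) _ hx') using 1
    rw [map_mul]
    ring

variable {M τ : Type u} [AddCommGroup M] [Module A M] [SetLike τ M] [AddSubgroupClass τ M] (ℳ : ℕ → τ)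
variable [SetLike.GradedSMul 𝒜 ℳ] [DirectSum.Decomposition ℳ]

/-- **`M~ = 0` and (TF) imply (TN)** when `𝒜` is generated by finitely many degree-one elements. -/
theorem TN_of_sect_subsingleton {s : ℕ} (g : Fin s → A) (hg : ∀ i, g i ∈ 𝒜 1)
    (hadj : Algebra.adjoin (𝒜 0) (Set.range g) = ⊤)
    {k₀ : ℕ} (hTF : (highSub A ℳ k₀).FG)
    (hzero : ∀ l, Subsingleton (GrMod.sect 𝒜 ℳ 0 (op (ProjectiveSpectrum.basicOpen 𝒜 (g l))))) :
    ∃ n₁ : ℕ, ∀ k : ℕ, n₁ ≤ k → ∀ m ∈ ℳ k, m = 0 := by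
  classical
  have hhom : ∀ (i : ℕ) (m : M), m ∈ ℳ i → m ∈ sat g (⊥ : Submodule A M) := by
    intro i m hm
    have h1 : ∀ l, ∃ N : ℕ, g l ^ N • m = 0 := fun l => by
      have hi : (i : ℤ) = (i : ℕ) * (1 : ℕ) + 0 := by push_cast; ring
      have := (hzero l).elim (powSect 𝒜 ℳ 0 (hg l) i hm hi) 0
      exact (powSect_eq_zero_iff 𝒜 ℳ 0 Nat.one_pos (hg l) i hm hi).mp this
    choose Nf hNf using h1
    rw [mem_sat]
    refine ⟨Finset.univ.sup Nf, fun l => ?_⟩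
    have hle : Nf l ≤ Finset.univ.sup Nf := Finset.le_sup (Finset.mem_univ l)
    obtain ⟨j, hj⟩ := Nat.exists_eq_add_of_le hle
    rw [Submodule.mem_bot, hj, pow_add, mul_comm, mul_smul, hNf l, smul_zero]
  have hle : highSub A ℳ k₀ ≤ sat g (⊥ : Submodule A M) := by
    refine Submodule.span_le.mpr ?_
    intro m hm
    obtain ⟨i, -, hmi⟩ := Set.mem_iUnion₂.mp hm
    exact hhom i m hmi
  obtain ⟨n₂, hn₂⟩ := exists_deg_bound_of_le_sat 𝒜 ℳ g (fun _ => 1) hg hadj (isHomogSub_bot ℳ) _ hTF hle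
  refine ⟨max n₂ k₀, fun k hk m hm => ?_⟩
  have := hn₂ k ((le_max_left _ _).trans hk) m
    (mem_highSub_of_mem (A := A) ℳ ((le_max_right _ _).trans hk) hm) hm
  exact (Submodule.mem_bot A).mp this

end ring

section rel
variable {Y : Scheme.{u}} {𝒮 : RelProj.QCGrAlg Y} (ℳ : RelProj.GrModule 𝒮)

/-- vanishing of a graded piece over an affine open passes to its basic opens (quasi-coherent case). -/
lemma deg_basicOpen_eq_zero (hℳ : Coh.IsQCoh ((AMod.toOS 𝒮.toQCAlg).obj ℳ.mod)) {V : Y.Opens}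
    (hV : IsAffineOpen V) (r : Γ(Y, V)) (k : ℕ) (h0 : ∀ m ∈ ℳ.deg V hV k, m = 0)
    (D : Y.Opens) (hD : IsAffineOpen D) (hDr : D = Y.basicOpen r) :
    ∀ m ∈ ℳ.deg D hD k, m = 0 := by
  classical
  subst hDr
  intro m hm
  haveI : ((AMod.toOS 𝒮.toQCAlg).obj ℳ.mod).IsQuasicoherent := hℳ
  obtain ⟨N, x, hx⟩ := affine_surj ((AMod.toOS 𝒮.toQCAlg).obj ℳ.mod) hV r
    (show Γ((AMod.toOS 𝒮.toQCAlg).obj ℳ.mod, Y.basicOpen r) from m)
  set c : 𝒮.presheaf.obj (op (Y.basicOpen r)) :=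
    (𝒮.str.app (op (Y.basicOpen r))).hom ((Y.presheaf.map (homOfLE (Y.basicOpen_le r)).op r) ^ N) with hc
  have hx' : ℳ.res hV hD (Y.basicOpen_le r) x = c • m := hx
  have hc0 : c ∈ 𝒮.deg (Y.basicOpen r) hD 0 := 𝒮.str_mem _ hD _
  have hcm : c • m ∈ ℳ.deg (Y.basicOpen r) hD k := by
    have := (ℳ.gradedSMul' (Y.basicOpen r) hD).smul_mem hc0 hm
    rwa [zero_vadd] at this
  have h1 := semilin_decompose (𝒮.res hV hD (Y.basicOpen_le r)) (ℳ.res hV hD (Y.basicOpen_le r))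
    (ℳ.res_mem hV hD (Y.basicOpen_le r)) x k
  rw [hx', DirectSum.decompose_of_mem_same _ hcm,
    h0 _ (DirectSum.decompose (ℳ.deg V hV) x k).2, map_zero] at h1
  have hu : IsUnit c := by
    rw [hc]
    exact ((RingedSpace.isUnit_res_basicOpen _ r).pow N).map _
  obtain ⟨w, hw⟩ := hu
  have : (↑w⁻¹ : 𝒮.presheaf.obj (op (Y.basicOpen r))) • c • m = 0 := by rw [← h1, smul_zero]
  rwa [smul_smul, ← hw, Units.inv_mul, one_smul] at this

/-- a uniform (TN) bound on a finite affine cover gives (TN). -/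
lemma isTN_of_cover (hℳ : Coh.IsQCoh ((AMod.toOS 𝒮.toQCAlg).obj ℳ.mod)) (t : Finset Y.affineOpens)
    (ht : ∀ y : Y, ∃ V ∈ t, y ∈ V.1) (n : ℕ)
    (hn : ∀ V ∈ t, ∀ k : ℕ, n ≤ k → ∀ m ∈ ℳ.deg V.1 V.2 k, m = 0) : ℳ.IsTN := by
  refine ⟨n, fun U hU k hk m hm => ?_⟩
  have hloc : ∀ y : U, ∃ f : Γ(Y, U), y.1 ∈ Y.basicOpen f ∧
      (ℳ.mod.val.map (homOfLE (Y.basicOpen_le f)).op).hom m = 0 := by
    intro y
    obtain ⟨V, hVt, hyV⟩ := ht y.1
    obtain ⟨f, g, heq, hyf⟩ := exists_basicOpen_le_affine_inter hU V.2 y.1 ⟨y.2, hyV⟩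
    refine ⟨f, hyf, ?_⟩
    exact deg_basicOpen_eq_zero ℳ hℳ V.2 g k (hn V hVt k hk) (Y.basicOpen f) (hU.basicOpen f) heq _
      (ℳ.map_mem hU (hU.basicOpen f) (Y.basicOpen_le f) hm)
  choose f hyf hf0 using hloc
  have key := section_ext_of_cover ((AMod.toOS 𝒮.toQCAlg).obj ℳ.mod) (fun y : U => Y.basicOpen (f y))
    (fun y => Y.basicOpen_le (f y)) (fun y hy => Opens.mem_iSup.mpr ⟨⟨y, hy⟩, hyf ⟨y, hy⟩⟩)
    (show Γ((AMod.toOS 𝒮.toQCAlg).obj ℳ.mod, U) from m) 0 (fun y => by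
      rw [map_zero]
      exact hf0 y)
  exact key

end rel

section main
variable {Y P : Scheme.{u}} {𝒮 : RelProj.QCGrAlg Y} {p : P ⟶ Y}
  {chart : ∀ (U : Y.Opens) (hU : IsAffineOpen U), (((p ⁻¹ᵁ U : P.Opens) : Scheme.{u}) ≅ Proj (𝒮.deg U hU))}

lemma subsingleton_sections_of_isZero {X : Scheme.{u}} {F : X.Modules} (h0 : IsZero F) (W : X.Opens) :
    Subsingleton Γ(F, W) := by
  refine ⟨fun a b => ?_⟩
  have h1 : (𝟙 F : F ⟶ F) = 0 := h0.eq_of_src _ _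
  have ha : a = (𝟙 F : F ⟶ F).app W a := rfl
  have hb : b = (𝟙 F : F ⟶ F).app W b := rfl
  rw [ha, hb, h1]
  rfl

/-- the chartwise (TN) bound coming from `ℳ~ = 0`. -/
lemma exists_TN_bound_chart (hgen : 𝒮.IsGenDegOne) (hft : 𝒮.IsFTDeg 1) {ℳ : RelProj.GrModule 𝒮}
    (hTF : ℳ.IsTF) {F : P.Modules}
    {lam : ∀ (U : Y.Opens) (hU : IsAffineOpen U),
      F ⟶ (Scheme.Modules.pushforward (RelProj.emb p chart U hU)).obj (GrMod.tilde (𝒮.deg U hU) (ℳ.deg U hU) 0)}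
    (hF : RelProj.IsRelTilde 𝒮 p chart ℳ 0 F lam) (h0 : IsZero F) (V : Y.Opens) (hV : IsAffineOpen V) :
    ∃ n₁ : ℕ, ∀ k : ℕ, n₁ ≤ k → ∀ m ∈ ℳ.deg V hV k, m = 0 := by
  classical
  obtain ⟨T, hT1, hT⟩ := hft V hV
  obtain ⟨n₀, hn₀⟩ := hTF
  have hadj := adjoin_eq_top_of_genDegOne (𝒮.deg V hV) (hgen V hV) T (fun x hx => by
    obtain ⟨c, hc⟩ := hT x hx
    exact ⟨fun t => (𝒮.str.app (op V)).hom (c t), fun t => 𝒮.str_mem V hV (c t), hc⟩)
  let e := T.equivFin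
  let g : Fin T.card → 𝒮.presheaf.obj (op V) := fun i => ((e.symm i : T) : 𝒮.presheaf.obj (op V))
  have hrange : Set.range g = Set.range fun t : T => (t : 𝒮.presheaf.obj (op V)) := by
    ext z
    constructor
    · rintro ⟨i, rfl⟩; exact ⟨e.symm i, rfl⟩
    · rintro ⟨t', rfl⟩; exact ⟨e t', by simp [g]⟩
  refine TN_of_sect_subsingleton (𝒮.deg V hV) (ℳ.deg V hV) g (fun i => hT1 (e.symm i).2)
    (by rw [hrange]; exact hadj) (hn₀ V hV) fun l => ?_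
  set j := RelProj.emb p chart V hV
  set W : P.Opens := j ''ᵁ (Proj.basicOpen (𝒮.deg V hV) (g l)) with hW
  have hWV : W ≤ p ⁻¹ᵁ V := by
    rw [← opensRange_emb 𝒮 p chart V hV]
    rintro _ ⟨z, -, rfl⟩
    exact ⟨z, rfl⟩
  have hsur := (hF.bijective V hV W hWV).2
  have hsub := subsingleton_sections_of_isZero h0 W
  have h1 : Subsingleton (GrMod.sect (𝒮.deg V hV) (ℳ.deg V hV) 0 (op (j ⁻¹ᵁ W))) :=
    ⟨fun a b => by
      obtain ⟨a', rfl⟩ := hsur a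
      obtain ⟨b', rfl⟩ := hsur b
      rw [hsub.elim a' b']⟩
  have hpre : (j ⁻¹ᵁ W : Opens (ProjectiveSpectrum.top (𝒮.deg V hV))) =
      ProjectiveSpectrum.basicOpen (𝒮.deg V hV) (g l) := j.preimage_image_eq _
  rw [hpre] at h1
  exact h1

/-- **S8326**: `ℳ~ = 0` and (TF) imply (TN) over a quasi-compact base. -/
theorem relTilde_TN_of_isZero [CompactSpace Y] (hgen : 𝒮.IsGenDegOne) (hft : 𝒮.IsFTDeg 1)
    {ℳ : RelProj.GrModule 𝒮} (hℳ : Coh.IsQCoh ((AMod.toOS 𝒮.toQCAlg).obj ℳ.mod))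
    (hTF : ℳ.IsTF) {F : P.Modules}
    {lam : ∀ (U : Y.Opens) (hU : IsAffineOpen U),
      F ⟶ (Scheme.Modules.pushforward (RelProj.emb p chart U hU)).obj (GrMod.tilde (𝒮.deg U hU) (ℳ.deg U hU) 0)}
    (hF : RelProj.IsRelTilde 𝒮 p chart ℳ 0 F lam) (h0 : IsZero F) : ℳ.IsTN := by
  classical
  choose nV hnV using fun V : Y.affineOpens => exists_TN_bound_chart hgen hft hTF hF h0 V.1 V.2
  -- finite affine subcover
  have hcov : (Set.univ : Set Y) ⊆ ⋃ V : Y.affineOpens, (V.1 : Set Y) := by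
    intro y _
    have hy : y ∈ (⊤ : Y.Opens) := trivial
    rw [← iSup_affineOpens_eq_top Y] at hy
    obtain ⟨V, hV⟩ := Opens.mem_iSup.mp hy
    exact Set.mem_iUnion.mpr ⟨V, hV⟩
  obtain ⟨t, ht⟩ := isCompact_univ.elim_finite_subcover (fun V : Y.affineOpens => (V.1 : Set Y))
    (fun V => V.1.2) hcov
  refine isTN_of_cover ℳ hℳ t (fun y => ?_) (t.sup nV) fun V hVt k hk =>
    hnV V k ((Finset.le_sup hVt).trans hk)
  obtain ⟨V, hVt, hyV⟩ := Set.mem_iUnion₂.mp (ht (Set.mem_univ y))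
  exact ⟨V, hVt, hyV⟩

end main

end Groth.Agent.H8.RelTilde
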