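import Groth.Agent.Lib.Helper8.ProjTilde.FinSect2
import Groth.Agent.Lib.Helper8.ProjTilde.FinType
import Groth.Agent.Lib.Helper8.RelTilde.FinType
import Groth.Agent.Lib.Helper8.RelTilde.Local

/-! # `M(n)~` and `O(n)` are of finite type, every `n`; coherence of relative twisting sheaves. -/

set_option autoImplicit false
universe u
open AlgebraicGeometry CategoryTheory Opposite TopologicalSpace DirectSum HomogeneousLocalization

namespace Groth.Agent.H8.ProjTilde

section General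

variable {A σ : Type u} [CommRing A] [SetLike σ A] [AddSubgroupClass σ A] (𝒜 : ℕ → σ) [GradedRing 𝒜]
variable {M τ : Type u} [AddCommGroup M] [Module A M] [SetLike τ M] [AddSubgroupClass τ M] (ℳ : ℕ → τ)
variable [SetLike.GradedSMul 𝒜 ℳ] [DirectSum.Decomposition ℳ]

/-- **`M(n)~` is of finite type** (every `n`) when `A` is generated over `A₀` by finitely many homogeneous
elements and `M` is generated in high degrees by finitely many homogeneous elements. -/
theorem tilde_isFiniteType' (n : ℤ)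
    {ι : Type*} [Fintype ι] (g : ι → A) (dg : ι → ℕ) (hg : ∀ i, g i ∈ 𝒜 (dg i))
    (hadj : Algebra.adjoin (𝒜 0) (Set.range g) = ⊤)
    {J : Type*} [Finite J] (mm : J → M) (e : J → ℕ) (hmm : ∀ j, mm j ∈ ℳ (e j))
    (hTF : ∃ n₀ : ℕ, ∀ t : ℕ, n₀ ≤ t → ∀ m ∈ ℳ t, m ∈ Submodule.span A (Set.range mm)) :
    (GrMod.tilde 𝒜 ℳ n).IsFiniteType := by
  haveI := tilde_isQuasicoherent 𝒜 ℳ n
  refine Groth.Agent.LD.QC.isFiniteType_of_finite_sections _ fun x => ?_
  obtain ⟨f, d, hf, hd, hfx⟩ := exists_homog_notMem 𝒜 x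
  exact ⟨Proj.basicOpen 𝒜 f, Proj.isAffineOpen_basicOpen 𝒜 f hf hd, (Proj.mem_basicOpen 𝒜 f x).mpr hfx,
    finite_sections_basicOpen' 𝒜 ℳ n hd hf g dg hg hadj mm e hmm hTF⟩

end General


section Twist

variable {A σ : Type u} [CommRing A] [SetLike σ A] [AddSubgroupClass σ A] (𝒜 : ℕ → σ) [GradedRing 𝒜]

/-- **`O(n)` is of finite type** when `A` is generated over `A₀` by finitely many homogeneous elements. -/
theorem twist_isFiniteType (n : ℤ)
    {ι : Type*} [Fintype ι] (g : ι → A) (dg : ι → ℕ) (hg : ∀ i, g i ∈ 𝒜 (dg i))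
    (hadj : Algebra.adjoin (𝒜 0) (Set.range g) = ⊤) :
    (GrTwist.twist 𝒜 n).IsFiniteType := by
  refine tilde_isFiniteType' 𝒜 𝒜 n g dg hg hadj (fun _ : Unit => (1 : A)) (fun _ => 0)
    (fun _ => SetLike.GradedOne.one_mem) ⟨0, fun t _ m _ => ?_⟩
  have : m = m • (1 : A) := by simp
  rw [this]
  exact Submodule.smul_mem _ _ (Submodule.subset_span ⟨(), rfl⟩)

/-- finitely many homogeneous algebra generators over the degree zero part, from a finite type structure
homomorphism landing in degree zero. -/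
theorem exists_homog_gens {R : Type*} [CommRing R] (ρ : R →+* A) (hρ0 : ∀ r, ρ r ∈ 𝒜 0)
    (hρ : ρ.FiniteType) :
    ∃ (T : Finset A) (dg : A → ℕ), (∀ t ∈ T, t ∈ 𝒜 (dg t)) ∧
      Algebra.adjoin (𝒜 0) (Set.range fun t : T => (t : A)) = ⊤ := by
  classical
  letI := ρ.toAlgebra
  obtain ⟨s, hs⟩ := (show Algebra.FiniteType R A from hρ).out
  let T : Finset A := s.biUnion fun x => (DirectSum.decompose 𝒜 x).support.image
    fun i => (DirectSum.decompose 𝒜 x i : A)
  have hT : ∀ t ∈ T, ∃ i, t ∈ 𝒜 i := by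
    intro t ht
    obtain ⟨x, -, ht⟩ := Finset.mem_biUnion.mp ht
    obtain ⟨i, -, rfl⟩ := Finset.mem_image.mp ht
    exact ⟨i, (DirectSum.decompose 𝒜 x i).2⟩
  refine ⟨T, fun t => if h : ∃ i, t ∈ 𝒜 i then h.choose else 0, fun t ht => ?_, ?_⟩
  · simp only [dif_pos (hT t ht)]; exact (hT t ht).choose_spec
  · rw [eq_top_iff]
    intro a _
    have ha : a ∈ (Algebra.adjoin R (s : Set A)).toSubring := by rw [hs]; trivial
    rw [Algebra.adjoin_eq_ring_closure] at ha
    have hle : Subring.closure (Set.range (algebraMap R A) ∪ (s : Set A)) ≤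
        (Algebra.adjoin (𝒜 0) (Set.range fun t : T => (t : A))).toSubring := by
      rw [Subring.closure_le]
      rintro x (⟨r, rfl⟩ | hx)
      · exact Subalgebra.algebraMap_mem _ (⟨ρ r, hρ0 r⟩ : 𝒜 0)
      · change x ∈ Algebra.adjoin (𝒜 0) (Set.range fun t : T => (t : A))
        rw [← DirectSum.sum_support_decompose 𝒜 x]
        refine Subalgebra.sum_mem _ fun i hi => Algebra.subset_adjoin ?_
        exact ⟨⟨_, Finset.mem_biUnion.mpr ⟨x, hx, Finset.mem_image.mpr ⟨i, hi, rfl⟩⟩⟩, rfl⟩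
    exact hle ha

end Twist

end Groth.Agent.H8.ProjTilde

namespace Groth.Agent.H8.RelTilde

open Groth.Agent.LD.QC Groth.Agent.H8.ProjTilde

variable {Y P : Scheme.{u}} {𝒮 : RelProj.QCGrAlg Y} {p : P ⟶ Y}
  {chart : ∀ (U : Y.Opens) (hU : IsAffineOpen U), (((p ⁻¹ᵁ U : P.Opens) : Scheme.{u}) ≅ Proj (𝒮.deg U hU))}

/-- **`O_P(n)` on a relative Proj of a finite type algebra is of finite type.** -/
theorem relTwist_isFiniteType
    (hft : ∀ (U : Y.Opens) (hU : IsAffineOpen U), (𝒮.str.app (op U)).hom.FiniteType) {n : ℤ} {L : P.Modules}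
    {lam : ∀ (U : Y.Opens) (hU : IsAffineOpen U),
      L ⟶ (Scheme.Modules.pushforward (RelProj.emb p chart U hU)).obj (GrTwist.twist (𝒮.deg U hU) n)}
    (hL : RelProj.IsRelTwist 𝒮 p chart n L lam) : L.IsFiniteType := by
  classical
  refine isFiniteType_of_restrict L fun x => ?_
  have hx' : x ∈ (⊤ : P.Opens) := trivial
  rw [← (isOpenCover_emb 𝒮 p chart).iSup_eq_top] at hx'
  obtain ⟨V, hxV⟩ := Opens.mem_iSup.mp hx'
  refine ⟨_, RelProj.emb p chart V.1 V.2, inferInstance, hxV, ?_⟩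
  haveI := isIso_adj_relTwist hL V.1 V.2
  haveI hq : (GrTwist.twist (𝒮.deg V.1 V.2) n).IsQuasicoherent :=
    tilde_isQuasicoherent (𝒮.deg V.1 V.2) (𝒮.deg V.1 V.2) n
  obtain ⟨T, dg, hT, hadj⟩ := exists_homog_gens (𝒮.deg V.1 V.2) (𝒮.str.app (op V.1)).hom
    (fun r => 𝒮.str_mem V.1 V.2 r) (hft V.1 V.2)
  have hFT : (GrTwist.twist (𝒮.deg V.1 V.2) n).IsFiniteType :=
    twist_isFiniteType (𝒮.deg V.1 V.2) n (fun t : T => (t : 𝒮.presheaf.obj (op V.1)))
      (fun t => dg t) (fun t => hT t t.2) hadj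
  exact isFiniteType_of_iso (asIso (adj (RelProj.emb p chart V.1 V.2) L _ (lam V.1 V.2))).symm hFT

end Groth.Agent.H8.RelTilde
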