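import Mathlib
import Groth.Prelude.Def_RelProj3
import Groth.Agent.Lib.Helper8.RelTilde.Glue

set_option autoImplicit false
universe u
open AlgebraicGeometry CategoryTheory CategoryTheory.Limits Opposite TopologicalSpace

namespace Groth.Agent.H8.RelTilde

open Groth.Agent.LD.QC Groth.Agent.H8.ProjTilde

section rel
variable {Y P : Scheme.{u}} {𝒮 : RelProj.QCGrAlg Y} {p : P ⟶ Y}
  {chart : ∀ (U : Y.Opens) (hU : IsAffineOpen U), (((p ⁻¹ᵁ U : P.Opens) : Scheme.{u}) ≅ Proj (𝒮.deg U hU))}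
variable {ℳ 𝒩 : RelProj.GrModule 𝒮} {u : ℳ.mod ⟶ 𝒩.mod} (hu : RelProj.IsGrModHom u) (n : ℤ)

/-- the chartwise morphisms induced by a homomorphism of graded modules. -/
noncomputable def psiOf (U : Y.Opens) (hU : IsAffineOpen U) :
    (Scheme.Modules.pushforward (RelProj.emb p chart U hU)).obj (GrMod.tilde (𝒮.deg U hU) (ℳ.deg U hU) n) ⟶
      (Scheme.Modules.pushforward (RelProj.emb p chart U hU)).obj (GrMod.tilde (𝒮.deg U hU) (𝒩.deg U hU) n) :=
  (Scheme.Modules.pushforward (RelProj.emb p chart U hU)).map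
    (GrMod.map (𝒮.deg U hU) (linAt u U) (hu U hU) n)

/-- `u` commutes with restriction, on localized modules. -/
lemma locMap_locModMap (V : Y.Opens) (hV : IsAffineOpen V) (r : Γ(Y, V))
    (y : ProjectiveSpectrum (𝒮.deg (Y.basicOpen r) (hV.basicOpen r)))
    (q : GrMod.LocMod (𝒮.deg V hV) (M := ℳ.mod.val.obj (op V)) (ProjectiveSpectrum.comap
      (𝒮.res hV (hV.basicOpen r) (Y.basicOpen_le r)) (𝒮.irrelevant_le_map V hV r) y)) :
    GrMod.locMap (linAt u (Y.basicOpen r)) y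
        (GrMod.locModMap (𝒮.res hV (hV.basicOpen r) (Y.basicOpen_le r)) (𝒮.irrelevant_le_map V hV r)
          (ℳ.res hV (hV.basicOpen r) (Y.basicOpen_le r)) y q) =
      GrMod.locModMap (𝒮.res hV (hV.basicOpen r) (Y.basicOpen_le r)) (𝒮.irrelevant_le_map V hV r)
        (𝒩.res hV (hV.basicOpen r) (Y.basicOpen_le r)) y (GrMod.locMap (linAt u V) _ q) := by
  induction q using LocalizedModule.induction_on with
  | h m s =>
    rw [GrMod.locModMap_mk, GrMod.locMap_mk, GrMod.locMap_mk, GrMod.locModMap_mk]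
    congr 1
    have := u.val.naturality (homOfLE (Y.basicOpen_le r)).op
    have h2 := congr($this m)
    exact h2

lemma crossCompat_psiOf : CrossCompat (psiOf (p := p) (chart := chart) hu n) := by
  intro V hV r W tV tD h y hy hy'
  change GrMod.locMap (linAt u (Y.basicOpen r)) y
      (GrMod.val (V := RelProj.emb p chart (Y.basicOpen r) (hV.basicOpen r) ⁻¹ᵁ W) tD ⟨y, hy⟩) =
    GrMod.locModMap _ _ (𝒩.res hV (hV.basicOpen r) (Y.basicOpen_le r)) y
      (GrMod.locMap (linAt u V) _ (GrMod.val (V := RelProj.emb p chart V hV ⁻¹ᵁ W) tV ⟨_, hy'⟩))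
  rw [h y hy hy', locMap_locModMap]

variable {F G : P.Modules}
  {lam : ∀ (U : Y.Opens) (hU : IsAffineOpen U),
    F ⟶ (Scheme.Modules.pushforward (RelProj.emb p chart U hU)).obj (GrMod.tilde (𝒮.deg U hU) (ℳ.deg U hU) n)}
  {lam' : ∀ (U : Y.Opens) (hU : IsAffineOpen U),
    G ⟶ (Scheme.Modules.pushforward (RelProj.emb p chart U hU)).obj (GrMod.tilde (𝒮.deg U hU) (𝒩.deg U hU) n)}

/-- **S8329**: a homomorphism of graded modules induces a unique morphism of the attached modules. -/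
theorem existsUnique_relTilde_map (hP : RelProj.IsRelProj 𝒮 p chart)
    (hF : RelProj.IsRelTilde 𝒮 p chart ℳ n F lam) (hG : RelProj.IsRelTilde 𝒮 p chart 𝒩 n G lam') :
    ∃! ut : F ⟶ G, ∀ (U : Y.Opens) (hU : IsAffineOpen U),
      ut ≫ lam' U hU =
        lam U hU ≫ (Scheme.Modules.pushforward (RelProj.emb p chart U hU)).map
          (GrMod.map (𝒮.deg U hU) (linAt u U) (hu U hU) n) :=
  existsUnique_glue hG (psiOf hu n) hP hF (crossCompat_psiOf hu n)

end rel

section uniq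
variable {Y P : Scheme.{u}} {𝒮 : RelProj.QCGrAlg Y} {p : P ⟶ Y}
  {chart : ∀ (U : Y.Opens) (hU : IsAffineOpen U), (((p ⁻¹ᵁ U : P.Opens) : Scheme.{u}) ≅ Proj (𝒮.deg U hU))}
variable {ℳ : RelProj.GrModule 𝒮} {n : ℤ} {F F' : P.Modules}
  {lam : ∀ (U : Y.Opens) (hU : IsAffineOpen U),
    F ⟶ (Scheme.Modules.pushforward (RelProj.emb p chart U hU)).obj (GrMod.tilde (𝒮.deg U hU) (ℳ.deg U hU) n)}
  {lam' : ∀ (U : Y.Opens) (hU : IsAffineOpen U),
    F' ⟶ (Scheme.Modules.pushforward (RelProj.emb p chart U hU)).obj (GrMod.tilde (𝒮.deg U hU) (ℳ.deg U hU) n)}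

/-- **S8323**: `IsRelTilde` data are unique up to unique isomorphism. -/
theorem relTilde_unique_iso (hP : RelProj.IsRelProj 𝒮 p chart)
    (hF : RelProj.IsRelTilde 𝒮 p chart ℳ n F lam) (hF' : RelProj.IsRelTilde 𝒮 p chart ℳ n F' lam') :
    (∃! φ : F ⟶ F', ∀ (U : Y.Opens) (hU : IsAffineOpen U), φ ≫ lam' U hU = lam U hU) ∧
      ∀ φ : F ⟶ F', (∀ (U : Y.Opens) (hU : IsAffineOpen U), φ ≫ lam' U hU = lam U hU) → IsIso φ := by
  constructor
  · have h := existsUnique_glue hF' (fun U hU => 𝟙 _) hP hF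
      (fun V hV r W tV tD h y hy hy' => h y hy hy')
    simpa only [Category.comp_id] using h
  · intro φ hφ
    refine Groth.Agent.H2.ModGlue.isIso_of_bijective_basis (chartBasis (𝒮 := 𝒮) (p := p))
      isBasis_chartBasis φ ?_
    rintro ⟨⟨V, hV⟩, W, hW⟩
    change Function.Bijective (φ.app W)
    have h1 := hF.bijective V hV W hW
    have h2 := hF'.bijective V hV W hW
    have h3 : ∀ s : Γ(F, W), (lam' V hV).app W (φ.app W s) = (lam V hV).app W s := fun s =>
      congrArg (fun α => α.app W s) (hφ V hV)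
    constructor
    · intro a b hab
      apply h1.1
      rw [← h3 a, ← h3 b, hab]
    · intro t
      obtain ⟨s, hs⟩ := h1.2 ((lam' V hV).app W t)
      exact ⟨s, h2.1 ((h3 s).trans hs)⟩

end uniq

end Groth.Agent.H8.RelTilde
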